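import Mathlib.RingTheory.Spectrum.Prime.Topology
import Mathlib.RingTheory.Ideal.MinimalPrime.Basic
import Mathlib.RingTheory.Ideal.MinimalPrime.Noetherian
import Mathlib.RingTheory.KrullDimension.Basic

/-!
# Open sets clopen over the minimal primes of the base
-/

universe u

open PrimeSpectrum Topology

namespace Groth.Agent.AffDimOne

variable {A B : Type*} [CommRing A] [CommRing B] (φ : A →+* B)

/-- A point of the closure of a quasi-compact open is a specialisation of one of its points. -/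
theorem exists_le_of_mem_closure {U : Set (PrimeSpectrum B)} (hUo : IsOpen U) (hUc : IsCompact U)
    {x : PrimeSpectrum B} (hx : x ∈ closure U) : ∃ q ∈ U, q.asIdeal ≤ x.asIdeal := by
  obtain ⟨t, ht⟩ := isCompact_isOpen_iff.mp ⟨hUc, hUo⟩
  have hs : U = ⋃ b ∈ (t : Set B), (basicOpen b : Set (PrimeSpectrum B)) := by
    rw [← ht]
    ext z
    simp [mem_zeroLocus, Set.not_subset]
  rw [hs, t.finite_toSet.closure_biUnion] at hx
  obtain ⟨b, hb, hxb⟩ := Set.mem_iUnion₂.mp hx
  let M : Submonoid B := Submonoid.powers b ⊔ x.asIdeal.primeCompl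
  have h0 : (0 : B) ∉ M := by
    intro h
    obtain ⟨_, ⟨n, rfl⟩, c, hc, hbc⟩ := Submonoid.mem_sup.mp h
    obtain ⟨z, hzc, hzb⟩ := mem_closure_iff.mp hxb _ (basicOpen c).isOpen hc
    exact hzc ((z.isPrime.mem_or_mem (show b ^ n * c ∈ z.asIdeal by rw [hbc]; exact zero_mem _)).resolve_left
      fun hn => hzb (z.isPrime.mem_of_pow_mem n hn))
  obtain ⟨q, hq, -, hqM⟩ := Ideal.exists_le_prime_disjoint (⊥ : Ideal B) M
    (Set.disjoint_left.mpr fun a ha ha' => h0 (by rwa [Ideal.mem_bot.mp ha] at ha'))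
  refine ⟨⟨q, hq⟩, hs ▸ Set.mem_iUnion₂.mpr ⟨b, hb, fun hbq => ?_⟩, fun a ha => by_contra fun ha' => ?_⟩
  · exact Set.disjoint_left.mp hqM hbq (Submonoid.mem_sup_left (Submonoid.mem_powers b))
  · exact Set.disjoint_left.mp hqM ha (Submonoid.mem_sup_right ha')

/-- A qc open closed under specialisation in the fibres is closed outside the vanishing of an element avoiding all
minimal primes. -/
theorem exists_notMem_minimalPrimes [IsNoetherianRing A] {U : Set (PrimeSpectrum B)} (hUo : IsOpen U) (hUc : IsCompact U)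
    (h : ∀ q x : PrimeSpectrum B, q ∈ U → q.asIdeal ≤ x.asIdeal → comap φ q = comap φ x → x ∈ U) :
    ∃ t : A, (∀ p ∈ minimalPrimes A, t ∉ p) ∧ ∀ x ∈ closure U, φ t ∉ x.asIdeal → x ∈ U := by
  classical
  let T := closure U \ U
  have hT : IsClosed T := isClosed_closure.sdiff hUo
  let J := (vanishingIdeal T).comap φ
  have hJ : ∀ p ∈ minimalPrimes A, ¬ J ≤ p := fun p hp hle => by
    haveI : p.IsPrime := hp.1.1
    obtain ⟨q, hq, hTq, hqS⟩ := Ideal.exists_le_prime_disjoint (vanishingIdeal T) (p.primeCompl.map φ)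
      (Set.disjoint_left.mpr fun b hb hb' => by
        obtain ⟨a, ha, rfl⟩ := hb'
        exact ha (hle hb))
    have hx : (⟨q, hq⟩ : PrimeSpectrum B) ∈ T := by
      rw [← hT.closure_eq, ← zeroLocus_vanishingIdeal_eq_closure]
      exact hTq
    obtain ⟨y, hy, hyx⟩ := exists_le_of_mem_closure hUo hUc hx.1
    have hcomap : ∀ z : PrimeSpectrum B, z.asIdeal ≤ q → (comap φ z).asIdeal = p := fun z hz => by
      have hz' : (comap φ z).asIdeal ≤ p := fun a ha => by_contra fun ha' =>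
        Set.disjoint_left.mp hqS (hz ha) ⟨a, ha', rfl⟩
      exact le_antisymm hz' (hp.2 ⟨(comap φ z).isPrime, bot_le⟩ hz')
    exact hx.2 (h y _ hy hyx (PrimeSpectrum.ext ((hcomap y hyx).trans (hcomap ⟨q, hq⟩ le_rfl).symm)))
  obtain ⟨t, htJ, ht⟩ : ∃ t ∈ J, ∀ p ∈ minimalPrimes A, t ∉ p := by
    by_contra hno
    push Not at hno
    have hfin := minimalPrimes.finite_of_isNoetherianRing A
    have hsub : (J : Set A) ⊆ ⋃ p ∈ (hfin.toFinset : Set (Ideal A)), (p : Set A) := fun a ha => by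
      obtain ⟨p, hp, hap⟩ := hno a ha
      exact Set.mem_iUnion₂.mpr ⟨p, hfin.mem_toFinset.mpr hp, hap⟩
    obtain ⟨p, hp, hle⟩ := (Ideal.subset_union_prime (f := fun p : Ideal A => p) ⊥ ⊥ fun p hp _ _ =>
      (hfin.mem_toFinset.mp hp).1.1).mp hsub
    exact hJ p (hfin.mem_toFinset.mp hp) hle
  exact ⟨t, ht, fun x hx hxt => by_contra fun hxU => hxt ((mem_vanishingIdeal _ _).mp htJ x ⟨hx, hxU⟩)⟩

/-- In dimension at most one a vanishing locus avoiding the minimal primes can be isolated at a point. -/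
theorem exists_isolating [IsNoetherianRing A] [Ring.KrullDimLE 1 A] {t : A} (ht : ∀ p ∈ minimalPrimes A, t ∉ p)
    (s : PrimeSpectrum A) :
    ∃ h : A, h ∉ s.asIdeal ∧ ∀ q : PrimeSpectrum A, t ∈ q.asIdeal → h ∉ q.asIdeal → q = s := by
  classical
  have hmax : ∀ q : PrimeSpectrum A, t ∈ q.asIdeal → q.asIdeal.IsMaximal := fun q hq =>
    (Ring.krullDimLE_one_iff.mp inferInstance _ q.isPrime).resolve_left fun hmin => ht _ hmin hq
  have hfin : {q : PrimeSpectrum A | t ∈ q.asIdeal}.Finite := by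
    refine (((Ideal.span {t}).finite_minimalPrimes_of_isNoetherianRing A).preimage
      (f := PrimeSpectrum.asIdeal) (fun _ _ _ _ e => PrimeSpectrum.ext e)).subset fun q hq => ?_
    refine ⟨⟨q.isPrime, (Ideal.span_singleton_le_iff_mem _).mpr hq⟩, fun p hp hpq => ?_⟩
    exact ((hmax ⟨p, hp.1⟩ ((Ideal.span_singleton_le_iff_mem _).mp hp.2)).eq_of_le q.isPrime.ne_top hpq).ge
  have hne : ∀ q ∈ hfin.toFinset.erase s, ∃ a ∈ q.asIdeal, a ∉ s.asIdeal := fun q hq => by
    obtain ⟨hqs, hq'⟩ := Finset.mem_erase.mp hq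
    exact SetLike.not_le_iff_exists.mp fun hle =>
      hqs (PrimeSpectrum.ext ((hmax q (hfin.mem_toFinset.mp hq')).eq_of_le s.isPrime.ne_top hle))
  choose! a ha ha' using hne
  refine ⟨∏ q ∈ hfin.toFinset.erase s, a q, fun hmem => ?_, fun q hq hqh => by_contra fun hqs => hqh ?_⟩
  · obtain ⟨q, hq, hqa⟩ := Ideal.IsPrime.prod_mem_iff.mp hmem
    exact ha' q hq hqa
  · have hq' : q ∈ hfin.toFinset.erase s := Finset.mem_erase.mpr ⟨hqs, hfin.mem_toFinset.mpr hq⟩
    exact q.asIdeal.mem_of_dvd (Finset.dvd_prod_of_mem a hq') (ha q hq')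

end Groth.Agent.AffDimOne
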