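import Groth.Agent.AffDimOne.Alg
import Groth.Agent.SchTop.ZeroDim
import Mathlib.AlgebraicGeometry.Normalization
import Mathlib.AlgebraicGeometry.ZariskisMainTheorem
import Mathlib.AlgebraicGeometry.Fiber
import Mathlib.Topology.KrullDimension
import Mathlib.CategoryTheory.Comma.Over.Pullback

/-!
# Quasi-finite separated morphisms with finite fibres over a base of dimension one are affine
-/

universe u

open CategoryTheory CategoryTheory.Limits AlgebraicGeometry TopologicalSpace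

set_option backward.isDefEq.respectTransparency.types false

noncomputable section

namespace Groth.Agent.AffDimOne

/-- An open which is closed inside an affine open meets it in an affine open. -/
theorem isAffineOpen_inf_of_isClosed {X : Scheme.{u}} {U W : X.Opens} (hW : IsAffineOpen W) {Z : Set X}
    (hZ : IsClosed Z) (h : ∀ x ∈ W, x ∈ U ↔ x ∈ Z) : IsAffineOpen (U ⊓ W) := by
  haveI : IsAffine (W : Scheme.{u}) := hW
  have hc : IsClopen ((W.ι ⁻¹ᵁ U : (W : Scheme.{u}).Opens) : Set ↥(W : Scheme.{u})) := by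
    refine ⟨?_, (W.ι ⁻¹ᵁ U).isOpen⟩
    have he : ((W.ι ⁻¹ᵁ U : (W : Scheme.{u}).Opens) : Set ↥(W : Scheme.{u})) = W.ι ⁻¹' Z := Set.ext fun x =>
      h (W.ι x) (W.range_ι.subset ⟨x, rfl⟩)
    rw [he]
    exact hZ.preimage W.ι.continuous
  have h1 := (SchTop.isAffineOpen_inf_of_isClopen (isAffineOpen_top (W : Scheme.{u})) hc).image_of_isOpenImmersion W.ι
  rwa [top_inf_eq, Scheme.Hom.image_preimage_eq_opensRange_inf, Scheme.Opens.opensRange_ι, inf_comm] at h1

/-- Affineness of an open from its behaviour on the fibres over a one-dimensional ring. -/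
theorem isAffineOpen_of_fibres {A B : CommRingCat.{u}} [IsNoetherianRing A] [Ring.KrullDimLE 1 A] (φ : A ⟶ B)
    (U : (Spec B).Opens) (hUc : IsCompact (U : Set ↥(Spec B)))
    (hfib : ∀ s : PrimeSpectrum A, ∃ K : Set (PrimeSpectrum B), IsClosed K ∧
      ∀ x : PrimeSpectrum B, PrimeSpectrum.comap φ.hom x = s → (x ∈ K ↔ x ∈ (U : Set ↥(Spec B)))) :
    IsAffineOpen U := by
  obtain ⟨t, ht, htU⟩ := exists_notMem_minimalPrimes φ.hom U.isOpen hUc fun q x hq hle he => by
    obtain ⟨K, hK, hKU⟩ := hfib (PrimeSpectrum.comap φ.hom x)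
    exact (hKU x rfl).mp (((PrimeSpectrum.le_iff_specializes q x).mp hle).mem_closed hK ((hKU q he).mpr hq))
  suffices IsAffineHom U.ι by
    exact isAffine_of_isAffineHom U.ι
  refine isAffineHom_of_forall_exists_isAffineOpen U.ι fun x => ?_
  suffices ∃ V : (Spec B).Opens, x ∈ V ∧ IsAffineOpen V ∧ IsAffineOpen (U ⊓ V) by
    obtain ⟨V, hxV, hV, hUV⟩ := this
    refine ⟨V, hxV, hV, ?_⟩
    rw [← U.ι.isAffineOpen_iff_of_isOpenImmersion, Scheme.Hom.image_preimage_eq_opensRange_inf,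
      Scheme.Opens.opensRange_ι]
    exact hUV
  have hbasic : ∀ O : Set (PrimeSpectrum B), IsOpen O → x ∈ O →
      ∃ b : B, x ∈ (PrimeSpectrum.basicOpen b : Set (PrimeSpectrum B)) ∧ (PrimeSpectrum.basicOpen b : Set (PrimeSpectrum B)) ⊆ O :=
    fun O hO hxO => by
      obtain ⟨_, ⟨b, rfl⟩, hxb, hb⟩ := PrimeSpectrum.isTopologicalBasis_basic_opens.exists_subset_of_mem_open hxO hO
      exact ⟨b, hxb, hb⟩
  by_cases hxU : x ∈ U
  · obtain ⟨b, hxb, hb⟩ := hbasic (U : Set ↥(Spec B)) U.isOpen hxU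
    let V : (Spec B).Opens := PrimeSpectrum.basicOpen b
    have hV : IsAffineOpen V := IsAffineOpen.Spec_basicOpen b
    refine ⟨V, hxb, hV, ?_⟩
    rw [show U ⊓ V = V from inf_eq_right.mpr hb]
    exact hV
  by_cases hxc : x ∈ closure (U : Set ↥(Spec B))
  · have hts : t ∈ (PrimeSpectrum.comap φ.hom x).asIdeal := by_contra fun h => hxU (htU x hxc h)
    obtain ⟨h, hhs, hh⟩ := exists_isolating ht (PrimeSpectrum.comap φ.hom x)
    obtain ⟨K, hK, hKU⟩ := hfib (PrimeSpectrum.comap φ.hom x)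
    obtain ⟨b, hxb, hb⟩ := hbasic ((PrimeSpectrum.basicOpen (φ.hom h) : Set (PrimeSpectrum B)) ∩ Kᶜ)
      ((PrimeSpectrum.basicOpen (φ.hom h)).isOpen.inter hK.isOpen_compl) ⟨hhs, fun h => hxU ((hKU x rfl).mp h)⟩
    let V : (Spec B).Opens := PrimeSpectrum.basicOpen b
    refine ⟨V, hxb, IsAffineOpen.Spec_basicOpen b, ?_⟩
    let W : (Spec B).Opens := PrimeSpectrum.basicOpen (b * φ.hom t)
    have hle : PrimeSpectrum.basicOpen (b * φ.hom t) ≤ PrimeSpectrum.basicOpen b := by
      rw [PrimeSpectrum.basicOpen_mul]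
      exact inf_le_left
    have hUW : U ⊓ V = U ⊓ W := by
      refine le_antisymm (fun z hz => ?_) (inf_le_inf_left _ hle)
      refine ⟨hz.1, ?_⟩
      show z ∈ PrimeSpectrum.basicOpen (b * φ.hom t)
      rw [PrimeSpectrum.basicOpen_mul]
      refine ⟨hz.2, fun htz => ?_⟩
      exact (hb hz.2).2 ((hKU z (hh _ htz (hb hz.2).1)).mpr hz.1)
    rw [hUW]
    refine isAffineOpen_inf_of_isClosed (IsAffineOpen.Spec_basicOpen _) (Z := closure (U : Set ↥(Spec B))) isClosed_closure fun z hz => ?_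
    exact ⟨fun h => subset_closure h, fun h => htU z h fun htz => hz (z.asIdeal.mul_mem_left b htz)⟩
  · obtain ⟨b, hxb, hb⟩ := hbasic _ isClosed_closure.isOpen_compl hxc
    let V : (Spec B).Opens := PrimeSpectrum.basicOpen b
    refine ⟨V, hxb, IsAffineOpen.Spec_basicOpen b, ?_⟩
    rw [show U ⊓ V = ⊥ from le_bot_iff.mp fun z hz => hb hz.2 (subset_closure hz.1)]
    exact isAffineOpen_bot _

variable {S : Scheme.{u}} {X Y : Over S} (u : X ⟶ Y)

/-- Finite fibres are closed in the fibres of a separated extension. -/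
theorem exists_isClosed_fibre {Xb : Scheme.{u}} (j : X.left ⟶ Xb) (ν : Xb ⟶ Y.left) [IsSeparated ν]
    (hj : j ≫ ν = u.left) (s : S) (hfin : IsFinite ((Over.pullback (S.fromSpecResidueField s)).map u).left) :
    ∃ K : Set Xb, IsClosed K ∧ ∀ x, Y.hom (ν x) = s → (x ∈ K ↔ x ∈ Set.range j) := by
  let κ := S.fromSpecResidueField s
  let us := ((Over.pullback κ).map u).left
  have hsq : IsPullback (pullback.fst X.hom κ) us u.left (pullback.fst Y.hom κ) := by
    have h1 : us ≫ pullback.snd Y.hom κ = pullback.snd X.hom κ := Over.w ((Over.pullback κ).map u)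
    refine IsPullback.of_bot ?_ (pullback.lift_fst _ _ _).symm (IsPullback.of_hasPullback Y.hom κ)
    rw [h1, Over.w u]
    exact IsPullback.of_hasPullback X.hom κ
  let a' := pullback.fst ν (pullback.fst Y.hom κ)
  let l : pullback X.hom κ ⟶ pullback ν (pullback.fst Y.hom κ) :=
    pullback.lift (pullback.fst X.hom κ ≫ j) us (by rw [Category.assoc, hj]; exact hsq.w)
  haveI : IsFinite (l ≫ pullback.snd ν (pullback.fst Y.hom κ)) := by rw [pullback.lift_snd]; exact hfin
  haveI : IsFinite l := IsFinite.of_comp l (pullback.snd ν (pullback.fst Y.hom κ))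
  obtain ⟨K, hK, hKl⟩ := a'.isEmbedding.isInducing.isClosed_iff.mp l.isClosedMap.isClosed_range
  refine ⟨K, hK, fun x hx => ?_⟩
  obtain ⟨z, rfl⟩ : x ∈ Set.range a' := by
    rw [Scheme.Pullback.range_fst, Set.mem_preimage, Scheme.Pullback.range_fst, Set.mem_preimage]
    exact ⟨IsLocalRing.closedPoint _, (Scheme.fromSpecResidueField_apply s _).trans hx.symm⟩
  have hz : a' z ∈ K ↔ z ∈ Set.range l := Set.ext_iff.mp hKl z
  rw [hz]
  constructor
  · rintro ⟨w, rfl⟩
    exact ⟨pullback.fst X.hom κ w, by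
      rw [← Scheme.Hom.comp_apply, ← Scheme.Hom.comp_apply, pullback.lift_fst]⟩
  · rintro ⟨w, hw⟩
    obtain ⟨w', rfl⟩ : w ∈ Set.range (pullback.fst X.hom κ) := by
      rw [Scheme.Pullback.range_fst, Set.mem_preimage]
      refine ⟨IsLocalRing.closedPoint _, (Scheme.fromSpecResidueField_apply s _).trans ?_⟩
      rw [← hx, ← hw, ← Scheme.Hom.comp_apply j ν, hj, ← Scheme.Hom.comp_apply, Over.w u]
    refine ⟨w', a'.isEmbedding.injective ?_⟩
    rw [← hw, ← Scheme.Hom.comp_apply, ← Scheme.Hom.comp_apply, pullback.lift_fst]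

include u in
/-- A quasi-finite separated morphism with finite fibres over a base of dimension one is affine. -/
theorem isAffineHom [IsLocallyNoetherian S] (hdim : topologicalKrullDim ↥S ≤ 1) [LocallyOfFiniteType X.hom]
    [QuasiCompact u.left] [LocallyQuasiFinite u.left] [IsSeparated u.left]
    (hfin : ∀ s : S, IsFinite ((Over.pullback (S.fromSpecResidueField s)).map u).left) : IsAffineHom u.left := by
  haveI : LocallyOfFiniteType (u.left ≫ Y.hom) := by rw [Over.w u]; infer_instance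
  haveI : LocallyOfFiniteType u.left := locallyOfFiniteType_of_comp u.left Y.hom
  obtain ⟨U, hU, hU'⟩ := Scheme.Hom.exists_isIso_morphismRestrict_toNormalization u.left
  let j := u.left.toNormalization
  let ν := u.left.fromNormalization
  have hjν : j ≫ ν = u.left := Scheme.Hom.toNormalization_fromNormalization u.left
  haveI : IsOpenImmersion j := by
    have htop : j ⁻¹ᵁ U = ⊤ := Opens.ext (hU'.trans (Set.eq_univ_of_forall fun x => Scheme.Hom.quasiFiniteAt u.left x))
    haveI : IsIso (X.left.topIso.inv) := inferInstance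
    have e : X.left.topIso.inv ≫ (X.left.isoOfEq htop).inv ≫ (j ∣_ U) ≫ U.ι = j := by
      rw [morphismRestrict_ι, Scheme.isoOfEq_inv_ι_assoc, ← Scheme.topIso_hom, Iso.inv_hom_id_assoc]
    rw [← e]
    infer_instance
  refine isAffineHom_of_forall_exists_isAffineOpen u.left fun y => ?_
  obtain ⟨_, ⟨U0, hU0, rfl⟩, hy0, -⟩ := S.isBasis_affineOpens.exists_subset_of_mem_open
    (Set.mem_univ (Y.hom y)) isOpen_univ
  obtain ⟨_, ⟨V, hV, rfl⟩, hyV, hV0⟩ := Y.left.isBasis_affineOpens.exists_subset_of_mem_open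
    (show y ∈ Y.hom ⁻¹ᵁ U0 from hy0) (Y.hom ⁻¹ᵁ U0).isOpen
  refine ⟨V, hyV, hV, ?_⟩
  haveI : IsNoetherianRing Γ(S, U0) := IsLocallyNoetherian.component_noetherian ⟨U0, hU0⟩
  haveI : Ring.KrullDimLE 1 Γ(S, U0) := Ring.krullDimLE_iff.mpr (by
    rw [← PrimeSpectrum.topologicalKrullDim_eq_ringKrullDim]
    exact (hU0.fromSpec.isOpenEmbedding.isInducing.topologicalKrullDim_le).trans hdim)
  have hW : IsAffineOpen (ν ⁻¹ᵁ V) := hV.preimage ν
  have e0 : ν ⁻¹ᵁ V ≤ (ν ≫ Y.hom) ⁻¹ᵁ U0 := fun z hz => hV0 hz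
  have hsq := hU0.SpecMap_appLE_fromSpec (ν ≫ Y.hom) hW e0
  have hpre : u.left ⁻¹ᵁ V = j ⁻¹ᵁ ν ⁻¹ᵁ V :=
    (congrArg (fun f : X.left ⟶ Y.left => f ⁻¹ᵁ V) hjν).symm.trans (Scheme.Hom.comp_preimage _ _ _)
  rw [hpre, ← j.isAffineOpen_iff_of_isOpenImmersion, Scheme.Hom.image_preimage_eq_opensRange_inf]
  let O : (Spec Γ(u.left.normalization, ν ⁻¹ᵁ V)).Opens := hW.fromSpec ⁻¹ᵁ j.opensRange
  have himg : hW.fromSpec ''ᵁ O = j.opensRange ⊓ ν ⁻¹ᵁ V := by
    rw [Scheme.Hom.image_preimage_eq_opensRange_inf, hW.opensRange_fromSpec, inf_comm]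
  rw [← himg]
  refine IsAffineOpen.image_of_isOpenImmersion (isAffineOpen_of_fibres ((ν ≫ Y.hom).appLE U0 _ e0) O ?_ fun s => ?_)
    hW.fromSpec
  · rw [hW.fromSpec.isOpenEmbedding.isInducing.isCompact_iff,
      show hW.fromSpec '' (O : Set ↥(Spec _)) = j '' ((u.left ⁻¹ᵁ V : X.left.Opens) : Set X.left) by
        rw [← Scheme.Hom.coe_image, himg, hpre, ← Scheme.Hom.coe_image,
          Scheme.Hom.image_preimage_eq_opensRange_inf]]
    exact (u.left.isCompact_preimage hV.isCompact).image j.continuous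
  · obtain ⟨K, hK, hKj⟩ := exists_isClosed_fibre u j ν hjν (hU0.fromSpec s) (hfin _)
    refine ⟨hW.fromSpec ⁻¹' K, hK.preimage hW.fromSpec.continuous, fun x hx => ?_⟩
    refine hKj (hW.fromSpec x) ?_
    rw [← Scheme.Hom.comp_apply ν, ← Scheme.Hom.comp_apply hW.fromSpec, ← hsq, Scheme.Hom.comp_apply]
    exact congrArg hU0.fromSpec hx

end Groth.Agent.AffDimOne
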